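import Mathlib
import Cfsg.Prelude.Def_LieExceptional
import Cfsg.Agent.Lib.FPF.FrobeniusKernel

/-!
Elementary facts about finite Zassenhaus groups: orders, the Frobenius kernel of a point stabiliser,
and the double count of the pairs interchanged by a conjugation-invariant set.
-/

set_option autoImplicit false
set_option linter.style.haveILetI false
set_option linter.unusedSectionVars false
open Cfsg MulAction

namespace Cfsg.Agent.Lib.ZassFrob

variable {G Ω : Type*} [Group G] [MulAction G Ω]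

theorem inv_fix {x : G} {p : Ω} (h : x • p = p) : x⁻¹ • p = p := inv_smul_eq_iff.mpr h.symm

variable (hZ : IsZassenhausGroup G Ω)
include hZ

theorem eq_one_of_fix3 {g : G} {a b c : Ω} (hab : a ≠ b) (hbc : b ≠ c) (hac : a ≠ c)
    (ha : g • a = a) (hb : g • b = b) (hc : g • c = c) : g = 1 :=
  hZ.2.2.1 g a b c hab hbc hac ha hb hc

theorem eq_or_eq_of_fix {g : G} (hg : g ≠ 1) {a b c : Ω} (hab : a ≠ b)
    (ha : g • a = a) (hb : g • b = b) (hc : g • c = c) : c = a ∨ c = b := by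
  by_contra h
  push Not at h
  exact hg (eq_one_of_fix3 hZ hab (Ne.symm h.2) (Ne.symm h.1) ha hb hc)

theorem exists_map_pair {p q p' q' : Ω} (h : p ≠ q) (h' : p' ≠ q') :
    ∃ g : G, g • p = p' ∧ g • q = q' :=
  (is_two_pretransitive_iff.mp hZ.2.1) h h'

theorem exists_move (p q : Ω) : ∃ g : G, g • p = q :=
  haveI := hZ.2.1
  haveI : IsPretransitive G Ω := isPretransitive_of_is_two_pretransitive
  exists_smul_eq G p q

theorem finite_set [Finite G] (a : Ω) : Finite Ω :=
  Finite.of_surjective (fun g : G => g • a) (fun p => exists_move hZ a p)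

theorem twoPt_ne_bot {a b : Ω} (hab : a ≠ b) : stabilizer G a ⊓ stabilizer G b ≠ ⊥ := by
  obtain ⟨g, hg, p, q, hpq, hp, hq⟩ := hZ.2.2.2.1
  obtain ⟨h, h1, h2⟩ := exists_map_pair hZ hpq hab
  intro e
  apply hg
  have : h * g * h⁻¹ ∈ stabilizer G a ⊓ stabilizer G b :=
    ⟨show (h * g * h⁻¹) • a = a by rw [mul_smul, mul_smul, inv_smul_eq_iff.mpr h1.symm, hp, h1],
     show (h * g * h⁻¹) • b = b by rw [mul_smul, mul_smul, inv_smul_eq_iff.mpr h2.symm, hq, h2]⟩
  rw [e, Subgroup.mem_bot] at this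
  exact conj_eq_one_iff.mp this

theorem exists_third {a b : Ω} (hab : a ≠ b) : ∃ c : Ω, c ≠ a ∧ c ≠ b := by
  by_contra h
  push Not at h
  refine twoPt_ne_bot hZ hab (Subgroup.eq_bot_iff_forall _ |>.mpr ?_)
  rintro g ⟨ha, hb⟩
  haveI := hZ.1
  refine FaithfulSMul.eq_of_smul_eq_smul (α := Ω) fun p => ?_
  rw [one_smul]
  by_cases hp : p = a
  · rw [hp]; exact ha
  · rw [h p hp]; exact hb

/-- `G_a ⊓ G_b` as a subgroup of `G_a` is a Frobenius complement. -/
theorem frobenius_complement {a b : Ω} (hab : a ≠ b) :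
    IsFrobeniusComplement ((stabilizer G b).subgroupOf (stabilizer G a)) := by
  refine ⟨fun h => ?_, fun h => ?_, fun g hg => ?_⟩
  · refine twoPt_ne_bot hZ hab (Subgroup.eq_bot_iff_forall _ |>.mpr fun x hx => ?_)
    have : (⟨x, hx.1⟩ : stabilizer G a) ∈ (stabilizer G b).subgroupOf (stabilizer G a) := hx.2
    rw [h, Subgroup.mem_bot] at this
    exact congrArg Subtype.val this
  · obtain ⟨c, hca, hcb⟩ := exists_third hZ hab
    obtain ⟨g, h1, h2⟩ := exists_map_pair hZ hab (Ne.symm hca)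
    have : (⟨g, h1⟩ : stabilizer G a) ∈ (stabilizer G b).subgroupOf (stabilizer G a) := by
      rw [h]; exact Subgroup.mem_top _
    exact hcb (h2 ▸ (this : g • b = b))
  · rw [Subgroup.eq_bot_iff_forall]
    rintro x ⟨hx, hx'⟩
    have hxb : (x : G) • b = b := hx
    have hxg : (x : G) • ((g : G) • b) = (g : G) • b := by
      have h' := Subgroup.mem_pointwise_smul_iff_inv_smul_mem.mp hx'
      rw [← map_inv, MulAut.smul_def, MulAut.conj_apply, inv_inv] at h'
      have h'' : ((g : G)⁻¹ * x * g) • b = b := h'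
      rw [mul_smul, mul_smul, inv_smul_eq_iff] at h''
      exact h''
    refine Subtype.ext (eq_one_of_fix3 hZ hab ?_ ?_ x.2 hxb hxg)
    · exact fun h => hg h.symm
    · intro h
      have : (g : G) • a = (g : G) • b := g.2.trans h
      exact hab (MulAction.injective _ this)

variable [Finite G]

theorem card_ne_pairs {a : Ω} :
    Nat.card {p : Ω × Ω // p.1 ≠ p.2} = Nat.card Ω * (Nat.card Ω - 1) := by
  haveI := finite_set hZ a
  have := Fintype.ofFinite Ω
  classical
  rw [Nat.card_eq_fintype_card, show Fintype.card {p : Ω × Ω // p.1 ≠ p.2} =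
    Fintype.card {p : Ω × Ω // ¬p.1 = p.2} from rfl, Fintype.card_subtype_compl,
    Fintype.card_congr (Equiv.subtypeProdEquivSigmaSubtype fun x y : Ω => x = y)]
  simp only [Fintype.card_sigma, Fintype.card_prod, Fintype.card_subtype_eq',
    Finset.sum_const, Finset.card_univ, smul_eq_mul, mul_one, Nat.card_eq_fintype_card]
  rw [Nat.mul_sub, mul_one]

/-- `|G| = |Ω| (|Ω| - 1) |G_a ⊓ G_b|`. -/
theorem card_group {a b : Ω} (hab : a ≠ b) :
    Nat.card G = Nat.card Ω * (Nat.card Ω - 1) * Nat.card ↥(stabilizer G a ⊓ stabilizer G b) := by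
  haveI := finite_set hZ a
  have hst : stabilizer G (a, b) = stabilizer G a ⊓ stabilizer G b := by
    ext g; simp [Prod.ext_iff]
  have horb : orbit G (a, b) = {p : Ω × Ω | p.1 ≠ p.2} := by
    ext p
    constructor
    · rintro ⟨g, rfl⟩ h
      exact hab (MulAction.injective g h)
    · intro h
      obtain ⟨g, h1, h2⟩ := exists_map_pair hZ hab h
      exact ⟨g, Prod.ext h1 h2⟩
  have := Fintype.ofFinite G
  have := Fintype.ofFinite Ω
  classical
  have h := card_orbit_mul_card_stabilizer_eq_card_group G (a, b)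
  rw [← Nat.card_eq_fintype_card, ← Nat.card_eq_fintype_card, ← Nat.card_eq_fintype_card, hst,
    horb] at h
  rw [← h, ← card_ne_pairs hZ (a := a)]
  rfl

theorem two_lt_card {a b : Ω} (hab : a ≠ b) : 2 < Nat.card Ω := by
  haveI := finite_set hZ a
  have := Fintype.ofFinite Ω
  obtain ⟨c, hca, hcb⟩ := exists_third hZ hab
  rw [Nat.card_eq_fintype_card, Fintype.two_lt_card_iff]
  exact ⟨a, b, c, hab, Ne.symm hca, Ne.symm hcb⟩

theorem card_stab {a b : Ω} (hab : a ≠ b) :
    Nat.card (stabilizer G a) = (Nat.card Ω - 1) * Nat.card ↥(stabilizer G a ⊓ stabilizer G b) := by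
  haveI := finite_set hZ a
  haveI := hZ.2.1
  haveI : IsPretransitive G Ω := isPretransitive_of_is_two_pretransitive
  have h : Nat.card (stabilizer G a) * Nat.card Ω = Nat.card G := by
    rw [← index_stabilizer_of_transitive G a, Subgroup.card_mul_index]
  rw [card_group hZ hab] at h
  have h2 := two_lt_card hZ hab
  refine Nat.eq_of_mul_eq_mul_right (show 0 < Nat.card Ω by omega) ?_
  rw [h, mul_assoc, mul_comm (Nat.card Ω)]

theorem twoPt_index {a b : Ω} (hab : a ≠ b) :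
    ((stabilizer G b).subgroupOf (stabilizer G a)).index = Nat.card Ω - 1 := by
  have h := Subgroup.card_mul_index ((stabilizer G b).subgroupOf (stabilizer G a))
  have e : Nat.card ((stabilizer G b).subgroupOf (stabilizer G a)) =
      Nat.card ↥(stabilizer G a ⊓ stabilizer G b) := by
    rw [← Subgroup.inf_subgroupOf_left, Nat.card_congr
      (Subgroup.subgroupOfEquivOfLe inf_le_left).toEquiv]
  rw [e, card_stab hZ hab, mul_comm (Nat.card Ω - 1)] at h
  exact Nat.eq_of_mul_eq_mul_left Nat.card_pos h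

/-- `|G_a ⊓ G_b|` divides `|Ω| - 2`. -/
theorem card_twoPt_dvd {a b : Ω} (hab : a ≠ b) :
    Nat.card ↥(stabilizer G a ⊓ stabilizer G b) ∣ Nat.card Ω - 2 := by
  have h := Lib.Hall.fc_index_mod_card (frobenius_complement hZ hab)
  rw [twoPt_index hZ hab, ← Subgroup.inf_subgroupOf_left, Nat.card_congr
    (Subgroup.subgroupOfEquivOfLe inf_le_left).toEquiv] at h
  have h2 := two_lt_card hZ hab
  have := (Nat.modEq_iff_dvd' (show 1 ≤ Nat.card Ω - 1 by omega)).mp h.symm
  rwa [show Nat.card Ω - 1 - 1 = Nat.card Ω - 2 by omega] at this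

/-- The Frobenius kernel of a point stabiliser. -/
theorem exists_kernel {a b : Ω} (hab : a ≠ b) :
    ∃ K : Subgroup G, K ≤ stabilizer G a ∧ (∀ g ∈ stabilizer G a, ∀ x ∈ K, g * x * g⁻¹ ∈ K) ∧
      Group.IsNilpotent K ∧ K ⊓ stabilizer G b = ⊥ ∧
      K ⊔ (stabilizer G a ⊓ stabilizer G b) = stabilizer G a ∧
      Nat.card K + 1 = Nat.card Ω ∧
      (∀ x ∈ K, x ≠ 1 → ∀ c : Ω, x • c = c → c = a) := by
  obtain ⟨N, hset, hn, hc, hnil⟩ :=
    Lib.FPF.exists_frobenius_kernel_nilpotent (frobenius_complement hZ hab)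
  refine ⟨N.map (stabilizer G a).subtype, Subgroup.map_subtype_le _, ?_, ?_, ?_, ?_, ?_, ?_⟩
  · rintro g hg _ ⟨x, hx, rfl⟩
    exact ⟨⟨g, hg⟩ * x * ⟨g, hg⟩⁻¹, hn.conj_mem x hx _, rfl⟩
  · exact Group.isNilpotent_congr (N.equivMapOfInjective _ (Subgroup.subtype_injective _)) |>.mp hnil
  · rw [Subgroup.eq_bot_iff_forall]
    rintro _ ⟨⟨x, hx, rfl⟩, hxb⟩
    have : x ∈ (stabilizer G b).subgroupOf (stabilizer G a) := hxb
    exact congrArg Subtype.val (Subgroup.disjoint_def.mp hc.disjoint hx this)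
  · have h := congrArg (Subgroup.map (stabilizer G a).subtype) hc.sup_eq_top
    rw [Subgroup.map_sup, Subgroup.subgroupOf_map_subtype, ← MonoidHom.range_eq_map,
      Subgroup.range_subtype, inf_comm] at h
    exact h
  · rw [Subgroup.card_map_of_injective (Subgroup.subtype_injective _), ← hc.index_eq_card,
      twoPt_index hZ hab]
    have := two_lt_card hZ hab
    omega
  · rintro _ ⟨x, hx, rfl⟩ hx1 c hc'
    by_contra hca
    obtain ⟨g, h1, h2⟩ := exists_map_pair hZ hab (Ne.symm hca)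
    rcases (hset ▸ hx : x ∈ frobeniusKernel _) with h | h
    · exact hx1 (congrArg Subtype.val h)
    · refine h ⟨g, h1⟩ ?_
      rw [Subgroup.mem_pointwise_smul_iff_inv_smul_mem, ← map_inv, MulAut.smul_def,
        MulAut.conj_apply, inv_inv]
      show (g⁻¹ * (x : G) * g) • b = b
      rw [mul_smul, mul_smul, h2, inv_smul_eq_iff, h2]
      exact hc'

/-- A subgroup of `G_a` of order `|Ω| - 1` whose nonidentity elements fix only `a` is the kernel. -/
theorem kernel_unique {a b : Ω} (hab : a ≠ b) {H K : Subgroup G} (hH : H ≤ stabilizer G a)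
    (hHf : ∀ x ∈ H, x ≠ 1 → ∀ c : Ω, x • c = c → c = a) (hHc : Nat.card H + 1 = Nat.card Ω)
    (hKle : K ≤ stabilizer G a) (hKn : ∀ g ∈ stabilizer G a, ∀ x ∈ K, g * x * g⁻¹ ∈ K)
    (hKb : K ⊓ stabilizer G b = ⊥)
    (hKs : K ⊔ (stabilizer G a ⊓ stabilizer G b) = stabilizer G a)
    (hKc : Nat.card K + 1 = Nat.card Ω) : H = K := by
  refine Subgroup.eq_of_le_of_card_ge (fun x hx => ?_) (by omega)
  by_contra hxK
  have hx1 : x ≠ 1 := fun h => hxK (h ▸ one_mem _)
  have hKorb : ∀ {c : Ω}, c ≠ a → ∃ k ∈ K, k • b = c := by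
    intro c hc
    obtain ⟨g, h1, h2⟩ := exists_map_pair hZ hab (Ne.symm hc)
    have hn : stabilizer G a ⊓ stabilizer G b ≤ Subgroup.normalizer (K : Set G) := by
      intro d hd
      refine Subgroup.mem_normalizer_iff.mpr fun y => ⟨hKn d hd.1 y, fun h => ?_⟩
      have := hKn d⁻¹ (inv_mem hd.1) _ h
      simpa [mul_assoc] using this
    have hg : g ∈ (stabilizer G a ⊓ stabilizer G b) ⊔ K := by
      rw [sup_comm, hKs]; exact h1
    rw [← SetLike.mem_coe, Subgroup.coe_mul_of_left_le_normalizer_right _ K hn] at hg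
    obtain ⟨d, hd, k, hk, rfl⟩ := Set.mem_mul.mp hg
    refine ⟨d * k * d⁻¹, hKn d hd.1 k hk, ?_⟩
    rw [mul_smul, inv_fix hd.2, h2]
  obtain ⟨k, hk, hkb⟩ := hKorb (c := x • b)
    (fun h => hab (by rw [← eq_inv_smul_iff, inv_fix (hH hx)] at h; exact h.symm))
  set d := k⁻¹ * x with hd
  have hdD : d ∈ stabilizer G a ⊓ stabilizer G b :=
    ⟨(stabilizer G a).mul_mem ((stabilizer G a).inv_mem (hKle hk)) (hH hx),
      show d • b = b by rw [hd, mul_smul, ← hkb, inv_smul_smul]⟩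
  have hd1 : d ≠ 1 := fun h => hxK (by rw [← inv_mul_eq_one.mp h]; exact hk)
  -- the map `y ↦ y⁻¹ (d y d⁻¹)` on `K` is injective, hence `x` is conjugate into `G_b`
  let F : K → K := fun y => ⟨(y : G)⁻¹ * (d * y * d⁻¹),
    mul_mem (inv_mem y.2) (hKn d hdD.1 y y.2)⟩
  have hinj : Function.Injective F := by
    intro y z e
    have e' : (y : G)⁻¹ * (d * y * d⁻¹) = (z : G)⁻¹ * (d * z * d⁻¹) := congrArg Subtype.val e
    have hcomm : (z : G) * (y : G)⁻¹ * d = d * (z * (y : G)⁻¹) := by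
      calc (z : G) * (y : G)⁻¹ * d = z * ((y : G)⁻¹ * (d * y * d⁻¹)) * d * (y : G)⁻¹ := by group
        _ = d * (z * (y : G)⁻¹) := by rw [e']; group
    have hkz : (z : G) * (y : G)⁻¹ ∈ K := mul_mem z.2 (inv_mem y.2)
    by_contra hyz
    have hkz1 : (z : G) * (y : G)⁻¹ ≠ 1 := fun h =>
      hyz (Subtype.ext (mul_inv_eq_one.mp h).symm)
    have hfix : d • (((z : G) * (y : G)⁻¹) • b) = ((z : G) * (y : G)⁻¹) • b := by
      rw [smul_smul, ← hcomm, mul_smul, mem_stabilizer_iff.mp hdD.2]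
    rcases eq_or_eq_of_fix hZ hd1 hab hdD.1 hdD.2 hfix with h | h
    · rw [← eq_inv_smul_iff, inv_fix (hKle hkz)] at h
      exact hab h.symm
    · exact hkz1 (Subgroup.mem_bot.mp
        (hKb ▸ ⟨hkz, h⟩ : (z : G) * (y : G)⁻¹ ∈ (⊥ : Subgroup G)))
  obtain ⟨y, hy⟩ := (Finite.injective_iff_surjective.mp hinj) ⟨k, hk⟩
  have hy' : (y : G)⁻¹ * (d * y * d⁻¹) = k := congrArg Subtype.val hy
  have hxm : x = (y : G)⁻¹ * d * y := by
    calc x = k * d := by rw [hd]; group
      _ = (y : G)⁻¹ * d * y := by rw [← hy']; group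
  have := hHf x hx hx1 ((y : G)⁻¹ • b) (by
    rw [hxm, mul_smul, mul_smul, smul_inv_smul, mem_stabilizer_iff.mp hdD.2])
  rw [inv_smul_eq_iff, mem_stabilizer_iff.mp (hKle y.2)] at this
  exact hab this.symm

/-- Double count of the pairs moved by a conjugation-invariant set. -/
theorem card_swapped_pairs {a b : Ω} (hab : a ≠ b) (W : Set G)
    (hWc : ∀ g : G, ∀ w ∈ W, g * w * g⁻¹ ∈ W) :
    Nat.card {p : W × Ω // (p.1 : G) • p.2 ≠ p.2} =
      Nat.card Ω * (Nat.card Ω - 1) * Nat.card {w : G // w ∈ W ∧ w • a = b} := by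
  haveI := finite_set hZ a
  have hc : ∀ p : {p : Ω × Ω // p.1 ≠ p.2}, ∃ g : G, g • a = p.1.1 ∧ g • b = p.1.2 :=
    fun p => exists_map_pair hZ hab p.2
  choose g hga hgb using hc
  have e : Nat.card ({p : Ω × Ω // p.1 ≠ p.2} × {w : G // w ∈ W ∧ w • a = b}) =
      Nat.card {p : W × Ω // (p.1 : G) • p.2 ≠ p.2} := by
    refine Nat.card_eq_of_bijective (fun p => ⟨(⟨g p.1 * p.2.1 * (g p.1)⁻¹,
      hWc _ _ p.2.2.1⟩, p.1.1.1), ?_⟩) ⟨fun p p' h => ?_, fun q => ?_⟩
    · show (g p.1 * p.2.1 * (g p.1)⁻¹) • p.1.1.1 ≠ p.1.1.1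
      rw [mul_smul, mul_smul, inv_smul_eq_iff.mpr (hga p.1).symm, p.2.2.2, hgb]
      exact Ne.symm p.1.2
    · have h' := congrArg Subtype.val h
      simp only [Prod.mk.injEq, Subtype.mk.injEq] at h'
      obtain ⟨h1, h2⟩ := h'
      have hp : p.1 = p'.1 := by
        refine Subtype.ext (Prod.ext h2 ?_)
        have h3 := congrArg (fun x : G => x • p.1.1.1) h1
        simp only [mul_smul] at h3
        rw [inv_smul_eq_iff.mpr (hga p.1).symm, p.2.2.2, hgb, h2,
          inv_smul_eq_iff.mpr (hga p'.1).symm, p'.2.2.2, hgb] at h3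
        exact h3
      refine Prod.ext hp (Subtype.ext ?_)
      rw [hp] at h1
      exact mul_left_cancel (mul_right_cancel h1)
    · obtain ⟨⟨⟨w, hw⟩, x⟩, hx⟩ := q
      let p : {p : Ω × Ω // p.1 ≠ p.2} := ⟨(x, w • x), Ne.symm hx⟩
      refine ⟨(p, ⟨(g p)⁻¹ * w * g p, ?_, ?_⟩), Subtype.ext (Prod.ext (Subtype.ext ?_) rfl)⟩
      · have := hWc (g p)⁻¹ w hw
        rwa [inv_inv] at this
      · rw [mul_smul, mul_smul, hga p, inv_smul_eq_iff, hgb p]
      · show g p * ((g p)⁻¹ * w * g p) * (g p)⁻¹ = w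
        group
  rw [← e, Nat.card_prod, card_ne_pairs hZ (a := a)]

end Cfsg.Agent.Lib.ZassFrob
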