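import Mathlib
import Cfsg.Prelude.Def_LieExceptional
import Cfsg.Agent.S0040
import Cfsg.Agent.Lib.OddLocal.CyclicSub
import Cfsg.Agent.Lib.ZassFrob.Basic

/-!
Zassenhaus groups with a two-point stabiliser of odd order and no normal `q`-complements.
-/

set_option autoImplicit false
set_option linter.style.haveILetI false
set_option linter.unusedSectionVars false
open Cfsg MulAction

namespace Cfsg.Agent.Lib.ZassFrob

/-- An automorphism of a Z-group of odd order that inverts, modulo the commutator subgroup, a Sylow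
`q`-subgroup for each prime `q` dividing the index of the commutator subgroup inverts the group,
which is then cyclic. -/
theorem cyclic_of_inverted {H : Type*} [Group H] [Finite H] [IsZGroup H]
    (hodd : Odd (Nat.card H)) (ψ : MulAut H)
    (hq : ∀ q : ℕ, q.Prime → q ∣ (commutator H).index → ∃ P : Sylow q H, ∀ x ∈ (P : Subgroup H),
      Abelianization.of (ψ x) * Abelianization.of x = 1) :
    IsCyclic H ∧ ∀ x : H, ψ x = x⁻¹ := by
  let f : H →* Abelianization H :=
    { toFun := fun x => Abelianization.of (ψ x) * Abelianization.of x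
      map_one' := by simp
      map_mul' := fun x y => by simp only [map_mul]; exact mul_mul_mul_comm _ _ _ _ }
  have hker : ∀ x : H, Abelianization.of (ψ x) * Abelianization.of x = 1 := by
    suffices f.ker = ⊤ by
      intro x
      exact (MonoidHom.mem_ker (f := f)).mp (this ▸ Subgroup.mem_top x)
    have hH' : commutator H ≤ f.ker := fun x hx => by
      refine MonoidHom.mem_ker.mpr ?_
      show Abelianization.of (ψ x) * Abelianization.of x = 1
      have h1 : Abelianization.of x = 1 := by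
        rwa [← MonoidHom.mem_ker, Abelianization.ker_of]
      have h2 : ψ x ∈ commutator H := by
        have h := Subgroup.mem_map_of_mem ψ.toMonoidHom hx
        rw [commutator_def, Subgroup.map_commutator, Subgroup.map_top_of_surjective _
          ψ.surjective] at h
        rw [commutator_def]; exact h
      have h3 : Abelianization.of (ψ x) = 1 := by
        rwa [← MonoidHom.mem_ker, Abelianization.ker_of]
      rw [h1, h3, mul_one]
    by_contra hne
    obtain ⟨q, hq', hdvd⟩ := Nat.exists_prime_and_dvd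
      (fun h => hne (Subgroup.index_eq_one.mp h) : f.ker.index ≠ 1)
    haveI := Fact.mk hq'
    obtain ⟨P, hP⟩ := hq q hq' (hdvd.trans (Subgroup.index_dvd_of_le hH'))
    exact P.not_dvd_index (hdvd.trans
      (Subgroup.index_dvd_of_le fun x hx => MonoidHom.mem_ker.mpr (hP x hx)))
  have hcen : commutator H ≤ Subgroup.center H := by
    haveI := IsZGroup.isCyclic_commutator H
    intro c hc
    rw [Subgroup.mem_center_iff]
    intro x
    -- conjugation by `x` and `ψ` induce commuting automorphisms of the cyclic group `H'`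
    have hψc : ∀ c ∈ commutator H, ψ c ∈ commutator H := fun c hc => by
      have h := Subgroup.mem_map_of_mem ψ.toMonoidHom hc
      rw [commutator_def, Subgroup.map_commutator, Subgroup.map_top_of_surjective _
        ψ.surjective] at h
      rw [commutator_def]; exact h
    obtain ⟨m, hm⟩ := MonoidHom.map_cyclic
      ({ toFun := fun d => ⟨x * d * x⁻¹, (inferInstance : (commutator H).Normal).conj_mem _ d.2 x⟩
         map_one' := by simp
         map_mul' := fun d e => Subtype.ext (by simp [mul_assoc]) } :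
        ↥(commutator H) →* ↥(commutator H))
    have hm' : ∀ d ∈ commutator H, x * d * x⁻¹ = d ^ m := fun d hd =>
      congrArg Subtype.val (hm ⟨d, hd⟩)
    have hxinv : ∀ d ∈ commutator H, x⁻¹ * d * x = x * d * x⁻¹ := by
      intro d hd
      obtain ⟨c', hc'⟩ : ∃ c' ∈ commutator H, ψ x = x⁻¹ * c' := by
        refine ⟨x * ψ x, ?_, by group⟩
        rw [← Abelianization.ker_of H, MonoidHom.mem_ker, map_mul, mul_comm, hker]
      have hd0 : ψ.symm d ∈ commutator H := by
        have h := Subgroup.mem_map_of_mem ψ.symm.toMonoidHom hd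
        rw [commutator_def, Subgroup.map_commutator, Subgroup.map_top_of_surjective _
          ψ.symm.surjective] at h
        rw [commutator_def]; exact h
      have e : x * ψ.symm d * x⁻¹ = ψ.symm d ^ m := hm' _ hd0
      have e' := congrArg ψ e
      rw [map_mul, map_mul, map_inv, map_zpow, MulEquiv.apply_symm_apply, hc'.2] at e'
      have hcomm : c' * d = d * c' :=
        congrArg Subtype.val (mul_comm' (⟨c', hc'.1⟩ : ↥(commutator H)) ⟨d, hd⟩)
      rw [hm' d hd, ← e']
      calc x⁻¹ * d * x = x⁻¹ * (c' * d) * c'⁻¹ * x := by rw [hcomm]; group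
        _ = x⁻¹ * c' * d * (x⁻¹ * c')⁻¹ := by group
    have h2 : Commute c (x * x) := by
      calc c * (x * x) = x * (x⁻¹ * c * x) * x := by group
        _ = x * x * c := by rw [hxinv c hc]; group
    obtain ⟨k, hk⟩ : Odd (orderOf x) := hodd.of_dvd_nat (orderOf_dvd_natCard x)
    have e : (x * x) ^ (k + 1) = x := by
      rw [← pow_two, ← pow_mul, show 2 * (k + 1) = orderOf x + 1 by omega, pow_succ,
        pow_orderOf_eq_one, one_mul]
    exact (e ▸ h2.pow_right (k + 1)).eq.symm
  have hcomm : ∀ a b : H, a * b = b * a :=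
    commutative_of_cyclic_center_quotient Abelianization.of (by rwa [Abelianization.ker_of])
  refine ⟨?_, fun x => ?_⟩
  · letI : CommGroup H := { ‹Group H› with mul_comm := hcomm }
    infer_instance
  · have h := hker x
    rw [← map_mul, ← MonoidHom.mem_ker, Abelianization.ker_of] at h
    have hbot : commutator H = ⊥ := by
      rw [commutator_def, Subgroup.commutator_eq_bot_iff_le_centralizer]
      intro a _ b _
      exact hcomm b a
    rw [hbot, Subgroup.mem_bot] at h
    exact eq_inv_of_mul_eq_one_left h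

variable {G Ω : Type*} [Group G] [MulAction G Ω] [Finite G]
variable (hZ : IsZassenhausGroup G Ω)
include hZ

/-- An element commuting with a nontrivial element of `G_a ⊓ G_b` permutes `{a, b}`. -/
theorem perm_of_commute {a b : Ω} (hab : a ≠ b) {x g : G} (hxa : x • a = a) (hxb : x • b = b)
    (hx1 : x ≠ 1) (h : g * x = x * g) :
    (g • a = a ∧ g • b = b) ∨ (g • a = b ∧ g • b = a) := by
  have key : ∀ p : Ω, x • p = p → g • p = a ∨ g • p = b := fun p hp =>
    eq_or_eq_of_fix hZ hx1 hab hxa hxb (by rw [smul_smul, ← h, mul_smul, hp])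
  rcases key a hxa with ha | ha <;> rcases key b hxb with hb | hb
  · exact absurd (MulAction.injective g (ha.trans hb.symm)) hab
  · exact Or.inl ⟨ha, hb⟩
  · exact Or.inr ⟨ha, hb⟩
  · exact absurd (MulAction.injective g (ha.trans hb.symm)) hab

theorem isZGroup_twoPt {a b : Ω} (hab : a ≠ b)
    (hodd : Odd (Nat.card ↥(stabilizer G a ⊓ stabilizer G b))) :
    IsZGroup ↥(stabilizer G a ⊓ stabilizer G b) := by
  obtain ⟨N, hset, hn, hc, -⟩ :=
    Lib.FPF.exists_frobenius_kernel_nilpotent (frobenius_complement hZ hab)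
  have hfc := frobenius_complement hZ hab
  set H := (stabilizer G b).subgroupOf (stabilizer G a) with hH
  let e : ↥(stabilizer G a ⊓ stabilizer G b) →* ↥H :=
    { toFun := fun x => ⟨⟨x, x.2.1⟩, x.2.2⟩
      map_one' := rfl
      map_mul' := fun _ _ => rfl }
  have he : Function.Injective e := fun x y h =>
    Subtype.ext (congrArg (fun z : ↥H => ((z : stabilizer G a) : G)) h)
  have hcard : Nat.card H ∣ Nat.card ↥(stabilizer G a ⊓ stabilizer G b) := by
    rw [hH, ← Subgroup.inf_subgroupOf_left, Nat.card_congr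
      (Subgroup.subgroupOfEquivOfLe inf_le_left).toEquiv]
  suffices IsZGroup H from IsZGroup.of_injective he
  refine ⟨fun q hq P => ?_⟩
  haveI := Fact.mk hq
  have hN : N ≠ ⊥ := fun h => hfc.2.1 (by
    rw [← hc.sup_eq_top, h, bot_sup_eq])
  rcases S0040.result N H hc hN (fun h hh hh1 => Subgroup.eq_bot_iff_forall _ |>.mpr fun n hn' =>
    Subgroup.disjoint_def.mp hc.disjoint hn'.1
      (Lib.Hall.fc_centralizer_le hfc hh hh1 hn'.2)) q P with h | ⟨n, ⟨e⟩⟩
  · exact h
  · exfalso
    have h2 : Nat.card P ∣ Nat.card H := Subgroup.card_subgroup_dvd_card _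
    rw [Nat.card_congr e.toEquiv, Nat.card_eq_fintype_card, QuaternionGroup.card] at h2
    have : (2 : ℕ) ∣ 4 * 2 ^ n := ⟨2 * 2 ^ n, by ring⟩
    exact hodd.not_two_dvd_nat ((this.trans h2).trans hcard)

/-- A prime divisor of `|G_a ⊓ G_b|` of odd order is prime to `|Ω| (|Ω| - 1)`. -/
theorem not_dvd_pairs {a b : Ω} (hab : a ≠ b)
    (hodd : Odd (Nat.card ↥(stabilizer G a ⊓ stabilizer G b))) {q : ℕ} (hq : q.Prime)
    (hqd : q ∣ Nat.card ↥(stabilizer G a ⊓ stabilizer G b)) :
    ¬ q ∣ Nat.card Ω * (Nat.card Ω - 1) := by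
  have h1 := hqd.trans (card_twoPt_dvd hZ hab)
  have h2 := two_lt_card hZ hab
  have hq2 : q ≠ 2 := fun h => hodd.not_two_dvd_nat (h ▸ hqd)
  rw [hq.dvd_mul]
  rintro (h | h)
  · have := Nat.dvd_sub h h1
    rw [show Nat.card Ω - (Nat.card Ω - 2) = 2 by omega] at this
    exact hq2 ((Nat.prime_dvd_prime_iff_eq hq Nat.prime_two).mp this)
  · have := Nat.dvd_sub h h1
    rw [show Nat.card Ω - 1 - (Nat.card Ω - 2) = 1 by omega] at this
    exact hq.one_lt.ne' (Nat.dvd_one.mp this)

theorem odd_stab_inverted {a b : Ω} (hab : a ≠ b)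
    (hodd : Odd (Nat.card ↥(stabilizer G a ⊓ stabilizer G b)))
    (hnil : ∀ q : ℕ, q.Prime → q ∣ Nat.card ↥(stabilizer G a ⊓ stabilizer G b) →
      ¬ ∃ N : Subgroup G, N.Normal ∧ N.index = q ^ (Nat.card G).factorization q) :
    IsCyclic ↥(stabilizer G a ⊓ stabilizer G b) ∧
      ∀ s : G, s • a = b → s • b = a →
        ∀ h ∈ stabilizer G a ⊓ stabilizer G b, s * h * s⁻¹ = h⁻¹ := by
  haveI := finite_set hZ a
  set D := stabilizer G a ⊓ stabilizer G b with hD
  haveI := isZGroup_twoPt hZ hab hodd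
  have main : ∀ s : G, s • a = b → s • b = a →
      IsCyclic D ∧ ∀ h ∈ D, s * h * s⁻¹ = h⁻¹ := by
    intro s hsa hsb
    have hsn : ∀ x ∈ D, s * x * s⁻¹ ∈ D := fun x hx => by
      refine ⟨?_, ?_⟩
      · show (s * x * s⁻¹) • a = a
        rw [mul_smul, mul_smul, inv_smul_eq_iff.mpr hsb.symm, mem_stabilizer_iff.mp hx.2, hsb]
      · show (s * x * s⁻¹) • b = b
        rw [mul_smul, mul_smul, inv_smul_eq_iff.mpr hsa.symm, mem_stabilizer_iff.mp hx.1, hsa]
    have hsn' : ∀ x ∈ D, s⁻¹ * x * s ∈ D := fun x hx => by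
      refine ⟨?_, ?_⟩
      · show (s⁻¹ * x * s) • a = a
        rw [mul_smul, mul_smul, hsa, mem_stabilizer_iff.mp hx.2, inv_smul_eq_iff, hsa]
      · show (s⁻¹ * x * s) • b = b
        rw [mul_smul, mul_smul, hsb, mem_stabilizer_iff.mp hx.1, inv_smul_eq_iff, hsb]
    let ψ : MulAut D :=
      { toFun := fun x => ⟨s * x * s⁻¹, hsn x x.2⟩
        invFun := fun x => ⟨s⁻¹ * x * s, hsn' x x.2⟩
        left_inv := fun x => Subtype.ext (by simp [mul_assoc])
        right_inv := fun x => Subtype.ext (by simp [mul_assoc])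
        map_mul' := fun x y => Subtype.ext (by simp [mul_assoc]) }
    suffices hyp : ∀ q : ℕ, q.Prime → q ∣ (commutator D).index →
        ∃ P : Sylow q D, ∀ x ∈ (P : Subgroup D),
          Abelianization.of (ψ x) * Abelianization.of x = 1 by
      obtain ⟨h1, h2⟩ := cyclic_of_inverted hodd ψ hyp
      exact ⟨h1, fun h hh => congrArg Subtype.val (h2 ⟨h, hh⟩)⟩
    intro q hq hqi
    haveI := Fact.mk hq
    have hqD : q ∣ Nat.card D := hqi.trans (Subgroup.index_dvd_card _)
    obtain ⟨P₀⟩ : Nonempty (Sylow q D) := inferInstance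
    refine ⟨P₀, ?_⟩
    have hfac : (Nat.card G).factorization q = (Nat.card D).factorization q := by
      rw [card_group hZ hab, ← hD]
      have h3 : Nat.card Ω * (Nat.card Ω - 1) ≠ 0 := by
        have := two_lt_card hZ hab
        exact Nat.mul_ne_zero (by omega) (by omega)
      rw [Nat.factorization_mul h3 Nat.card_pos.ne', Finsupp.add_apply,
        Nat.factorization_eq_zero_of_not_dvd (not_dvd_pairs hZ hab hodd hq hqD), zero_add]
    let P : Sylow q G := Sylow.ofCard ((P₀ : Subgroup D).map D.subtype) (by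
      rw [Subgroup.card_map_of_injective D.subtype_injective, P₀.card_eq_multiplicity, hfac])
    have hPD : (P : Subgroup G) ≤ D := by
      rw [Sylow.coe_ofCard]; exact Subgroup.map_subtype_le _
    have hP1 : (P : Subgroup G) ≠ ⊥ := P.ne_bot_of_dvd_card
      (hqD.trans (Subgroup.card_subgroup_dvd_card D))
    haveI : IsCyclic (P : Subgroup G) := by
      have : IsCyclic ((P₀ : Subgroup D).map D.subtype) :=
        isCyclic_of_surjective _ ((P₀ : Subgroup D).equivMapOfInjective _
          D.subtype_injective).surjective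
      rwa [Sylow.coe_ofCard]
    -- an element normalising but not centralising `P`
    obtain ⟨w, hwN, x₁, hx₁, hwx⟩ : ∃ w ∈ Subgroup.normalizer ((P : Subgroup G) : Set G),
        ∃ x ∈ (P : Subgroup G), w * x * w⁻¹ ≠ x := by
      by_contra hcon
      push Not at hcon
      have hle : Subgroup.normalizer ((P : Subgroup G) : Set G) ≤
          Subgroup.centralizer ((P : Subgroup G) : Set G) := fun w hw =>
        Subgroup.mem_centralizer_iff.mpr fun x hx =>
          (mul_inv_eq_iff_eq_mul.mp (hcon w hw x hx)).symm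
      have hc := MonoidHom.ker_transferSylow_isComplement' P hle
      exact hnil q hq hqD ⟨_, inferInstance, by rw [hc.symm.index_eq_card, P.card_eq_multiplicity]⟩
    have hcentD : ∀ w ∈ D, w ∈ Subgroup.normalizer ((P : Subgroup G) : Set G) →
        ∀ x ∈ (P : Subgroup G), w * x * w⁻¹ = x := by
      intro w hw hwN x hx
      have hxD := hPD hx
      have hm : (⟨w, hw⟩ * ⟨x, hxD⟩ * (⟨w, hw⟩ : D)⁻¹ * (⟨x, hxD⟩ : D)⁻¹) ∈
          commutator D :=
        Subgroup.commutator_mem_commutator (Subgroup.mem_top _) (Subgroup.mem_top _)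
      have hm2 : (⟨w, hw⟩ * ⟨x, hxD⟩ * (⟨w, hw⟩ : D)⁻¹ * (⟨x, hxD⟩ : D)⁻¹) ∈
          (P₀ : Subgroup D) := by
        have : w * x * w⁻¹ * x⁻¹ ∈ (P₀ : Subgroup D).map D.subtype := by
          show w * x * w⁻¹ * x⁻¹ ∈ (P : Subgroup G)
          exact mul_mem ((Subgroup.mem_normalizer_iff.mp hwN x).mp hx) (inv_mem hx)
        obtain ⟨y, hy, hy'⟩ := this
        have e : y = ⟨w, hw⟩ * ⟨x, hxD⟩ * (⟨w, hw⟩ : D)⁻¹ * (⟨x, hxD⟩ : D)⁻¹ := Subtype.ext hy'
        exact e ▸ hy
      have hcop : (Nat.card (commutator D)).Coprime (Nat.card (P₀ : Subgroup D)) := by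
        rw [P₀.card_eq_multiplicity]
        refine Nat.Coprime.pow_right _ (hq.coprime_iff_not_dvd.mpr fun h => ?_).symm
        exact hq.ne_one (Nat.eq_one_of_dvd_coprimes (IsZGroup.coprime_commutator_index D) h hqi)
      have h1 := Subgroup.disjoint_def.mp (Subgroup.disjoint_of_coprime_natCard hcop) hm hm2
      exact mul_inv_eq_one.mp (congrArg Subtype.val h1)
    -- `w` interchanges `a` and `b`
    obtain ⟨z, hz, hz1⟩ := (Subgroup.ne_bot_iff_exists_ne_one.mp hP1)|> fun ⟨z, hz⟩ =>
      (⟨z, z.2, fun h => hz (Subtype.ext h)⟩ : ∃ z, z ∈ (P : Subgroup G) ∧ z ≠ 1)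
    have hwswap : w • a = b ∧ w • b = a := by
      have key : ∀ p : Ω, (∀ y ∈ (P : Subgroup G), y • p = p) → w • p = a ∨ w • p = b := by
        intro p hp
        refine eq_or_eq_of_fix hZ hz1 hab (hPD hz).1 (hPD hz).2 ?_
        have h4 := (Subgroup.mem_normalizer_iff''.mp hwN z).mp hz
        have := hp _ h4
        rwa [mul_smul, mul_smul, inv_smul_eq_iff] at this
      rcases key a (fun y hy => (hPD hy).1) with ha | ha <;>
        rcases key b (fun y hy => (hPD hy).2) with hb | hb
      · exact absurd (MulAction.injective w (ha.trans hb.symm)) hab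
      · exact absurd (hcentD w ⟨ha, hb⟩ hwN x₁ hx₁) hwx
      · exact ⟨ha, hb⟩
      · exact absurd (MulAction.injective w (ha.trans hb.symm)) hab
    have hw2 : ∀ x ∈ (P : Subgroup G), w * (w * x * w⁻¹) * w⁻¹ = x := fun x hx => by
      have hwwD : w * w ∈ D :=
        ⟨by show (w * w) • a = a; rw [mul_smul, hwswap.1, hwswap.2],
         by show (w * w) • b = b; rw [mul_smul, hwswap.2, hwswap.1]⟩
      have := hcentD _ hwwD (mul_mem hwN hwN) x hx
      calc w * (w * x * w⁻¹) * w⁻¹ = w * w * x * (w * w)⁻¹ := by group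
        _ = x := this
    have hinv : ∀ x ∈ (P : Subgroup G), w * x * w⁻¹ = x⁻¹ := by
      intro x hx
      have hwx' := (Subgroup.mem_normalizer_iff.mp hwN x).mp hx
      have hc : x * (w * x * w⁻¹) = w * x * w⁻¹ * x :=
        congrArg Subtype.val (mul_comm' (⟨x, hx⟩ : ↥(P : Subgroup G)) ⟨_, hwx'⟩)
      have hfix : w * (x * (w * x * w⁻¹)) * w⁻¹ = x * (w * x * w⁻¹) := by
        calc w * (x * (w * x * w⁻¹)) * w⁻¹ = (w * x * w⁻¹) * (w * (w * x * w⁻¹) * w⁻¹) := by group
          _ = x * (w * x * w⁻¹) := by rw [hw2 x hx, hc]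
      by_contra hne
      have hy1 : x * (w * x * w⁻¹) ≠ 1 := fun h => hne (eq_inv_of_mul_eq_one_right h)
      have hyP : x * (w * x * w⁻¹) ∈ (P : Subgroup G) := mul_mem hx hwx'
      generalize x * (w * x * w⁻¹) = y at hfix hy1 hyP
      have hx1' : (w * x₁ * w⁻¹)⁻¹ * x₁ ≠ 1 := fun h => hwx (inv_mul_eq_one.mp h)
      set e := (w * x₁ * w⁻¹)⁻¹ * x₁ with he
      have heP : e ∈ (P : Subgroup G) :=
        mul_mem (inv_mem ((Subgroup.mem_normalizer_iff.mp hwN x₁).mp hx₁)) hx₁
      have hei : w * e * w⁻¹ = e⁻¹ := by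
        rw [he, ← MulAut.conj_apply w, map_mul, map_inv, MulAut.conj_apply, MulAut.conj_apply,
          hw2 x₁ hx₁, mul_inv_rev, inv_inv]
      -- both `y` and `e` have powers of order `q`, which generate the same subgroup
      obtain ⟨i, hi⟩ : q ∣ orderOf (⟨y, hyP⟩ : ↥(P : Subgroup G)) := by
        obtain ⟨k, hk⟩ := (IsPGroup.iff_orderOf.mp P.2) ⟨y, hyP⟩
        rw [hk]
        refine dvd_pow_self q fun h0 => hy1 ?_
        rw [h0, pow_zero, orderOf_eq_one_iff] at hk
        exact congrArg Subtype.val hk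
      obtain ⟨j, hj⟩ : q ∣ orderOf (⟨e, heP⟩ : ↥(P : Subgroup G)) := by
        obtain ⟨k, hk⟩ := (IsPGroup.iff_orderOf.mp P.2) ⟨e, heP⟩
        rw [hk]
        refine dvd_pow_self q fun h0 => hx1' ?_
        rw [h0, pow_zero, orderOf_eq_one_iff] at hk
        exact congrArg Subtype.val hk
      have hyo := orderOf_pos (⟨y, hyP⟩ : ↥(P : Subgroup G))
      have heo := orderOf_pos (⟨e, heP⟩ : ↥(P : Subgroup G))
      have hi0 : i ≠ 0 := by rintro rfl; simp [hi] at hyo
      have hj0 : j ≠ 0 := by rintro rfl; simp [hj] at heo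
      have o1 : orderOf ((⟨y, hyP⟩ : ↥(P : Subgroup G)) ^ i) = q := by
        rw [orderOf_pow_of_dvd hi0 ⟨q, by rw [hi, mul_comm]⟩, hi,
          Nat.mul_div_cancel _ (Nat.pos_of_ne_zero hi0)]
      have o2 : orderOf ((⟨e, heP⟩ : ↥(P : Subgroup G)) ^ j) = q := by
        rw [orderOf_pow_of_dvd hj0 ⟨q, by rw [hj, mul_comm]⟩, hj,
          Nat.mul_div_cancel _ (Nat.pos_of_ne_zero hj0)]
      obtain ⟨l, hl⟩ : (⟨e, heP⟩ : ↥(P : Subgroup G)) ^ j ∈
          Subgroup.zpowers ((⟨y, hyP⟩ : ↥(P : Subgroup G)) ^ i) := by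
        rw [Lib.OddLocal.eq_of_card_eq_of_le_cyclic (W := (⊤ : Subgroup ↥(P : Subgroup G)))
          (A := Subgroup.zpowers ((⟨y, hyP⟩ : ↥(P : Subgroup G)) ^ i))
          (B := Subgroup.zpowers ((⟨e, heP⟩ : ↥(P : Subgroup G)) ^ j)) le_top le_top
          (by rw [Nat.card_zpowers, Nat.card_zpowers, o1, o2])]
        exact Subgroup.mem_zpowers _
      have hl' : (y ^ i) ^ l = e ^ j := congrArg Subtype.val hl
      have h5 : w * e ^ j * w⁻¹ = e ^ j := by
        rw [← hl', ← conj_zpow, ← conj_pow, hfix]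
      rw [← conj_pow, hei, inv_pow] at h5
      have h6 : ((⟨e, heP⟩ : ↥(P : Subgroup G)) ^ j) ^ 2 = 1 := by
        apply Subtype.ext
        show (e ^ j) ^ 2 = 1
        rw [pow_two]; nth_rw 1 [← h5]; exact inv_mul_cancel _
      have h7 := orderOf_dvd_of_pow_eq_one h6
      rw [o2, Nat.prime_dvd_prime_iff_eq hq Nat.prime_two] at h7
      exact hodd.not_two_dvd_nat (h7 ▸ hqD)
    -- transfer to `s`
    intro x hx
    have hxP : ((x : D) : G) ∈ (P : Subgroup G) := by
      show ((x : D) : G) ∈ (P₀ : Subgroup D).map D.subtype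
      exact ⟨x, hx, rfl⟩
    set u := s * w⁻¹ with hu
    have huD : u ∈ D :=
      ⟨by show u • a = a; rw [hu, mul_smul, inv_smul_eq_iff.mpr hwswap.2.symm, hsb],
       by show u • b = b; rw [hu, mul_smul, inv_smul_eq_iff.mpr hwswap.1.symm, hsa]⟩
    have e : ψ x = ⟨u, huD⟩ * x⁻¹ * (⟨u, huD⟩ : D)⁻¹ := Subtype.ext (by
      show s * (x : G) * s⁻¹ = u * (x : G)⁻¹ * u⁻¹
      rw [← hinv _ hxP, hu]; group)
    rw [e, map_mul, map_mul, map_inv, map_inv, mul_comm (Abelianization.of (⟨u, huD⟩ : D)),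
      mul_inv_cancel_right, inv_mul_cancel]
  obtain ⟨s, hsa, hsb⟩ := exists_map_pair hZ hab (Ne.symm hab)
  exact ⟨(main s hsa hsb).1, fun s hsa hsb => (main s hsa hsb).2⟩

end Cfsg.Agent.Lib.ZassFrob
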